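import Groth.Agent.L05.Krasner.Newton
import Mathlib.FieldTheory.PrimitiveElement
import Mathlib.FieldTheory.Minpoly.IsIntegrallyClosed
import Mathlib.RingTheory.DedekindDomain.IntegralClosure
import Mathlib.RingTheory.DiscreteValuationRing.TFAE
import Mathlib.RingTheory.AdicCompletion.LocalRing
import Mathlib.LinearAlgebra.TensorProduct.Quotient
import Mathlib.LinearAlgebra.Dimension.Constructions

/-! # A finite extension of a complete discrete valuation ring is determined by a large enough quotient -/

set_option autoImplicit false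
set_option linter.style.haveILetI false

universe u

open Polynomial IsLocalRing
open scoped TensorProduct

noncomputable section

namespace Groth.L05.DVRQuot

/-- Free modules with isomorphic reductions modulo a proper ideal have the same rank. -/
theorem finrank_eq_of_quotient_equiv {A M N : Type u} [CommRing A] [CommRing M] [CommRing N] [Algebra A M] [Algebra A N]
    [Module.Free A M] [Module.Finite A M] [Module.Free A N] [Module.Finite A N] (J : Ideal A) (hJ : J ≠ ⊤)
    (ψ : (M ⧸ J.map (algebraMap A M)) ≃ₐ[A] (N ⧸ J.map (algebraMap A N))) :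
    Module.finrank A M = Module.finrank A N := by
  haveI : Nontrivial (A ⧸ J) := Ideal.Quotient.nontrivial_iff.mpr hJ
  haveI : Nontrivial A := (Ideal.Quotient.mk J).domain_nontrivial
  let e : ∀ (P : Type u) [CommRing P] [Algebra A P],
      ((A ⧸ J) ⊗[A] P) ≃ₗ[A] (P ⧸ J.map (algebraMap A P)) := fun P _ _ =>
    (TensorProduct.quotTensorEquivQuotSMul P J).trans
      ((Submodule.quotEquivOfEq _ ((J.map (algebraMap A P)).restrictScalars A)
        (Ideal.smul_top_eq_map J)).trans (Submodule.Quotient.restrictScalarsEquiv A _))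
  have := (LinearEquiv.extendScalarsOfSurjective (S := A ⧸ J) Ideal.Quotient.mk_surjective
    ((e M).trans (ψ.toLinearEquiv.trans (e N).symm))).finrank_eq
  rwa [Module.finrank_baseChange, Module.finrank_baseChange] at this

variable (A : Type u) [CommRing A] [IsDomain A] [IsDiscreteValuationRing A]
    [IsAdicComplete (maximalIdeal A) A] (ϖ : A) (hϖ : Irreducible ϖ)
    (K : Type u) [Field K] [Algebra A K] [IsFractionRing A K]
    (L : Type u) [Field L] [Algebra K L] [Algebra A L] [IsScalarTower A K L]
    [FiniteDimensional K L] [Algebra.IsSeparable K L]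
    (B : Type u) [CommRing B] [Algebra A B] [Algebra B L] [IsScalarTower A B L]
    [IsIntegralClosure B A L]

include hϖ K L in
theorem exists_bound : ∃ m₀ : ℕ, 0 < m₀ ∧ ∀ (C : Type u) [CommRing C] [IsDomain C] [IsDiscreteValuationRing C]
      [Algebra A C] [Module.Finite A C] (m : ℕ), m₀ < m →
        ∀ (_ : (B ⧸ Ideal.span {algebraMap A B (ϖ ^ m)}) ≃ₐ[A] (C ⧸ Ideal.span {algebraMap A C (ϖ ^ m)})),
          Nonempty (B ≃ₐ[A] C) := by
  classical
  haveI : IsNoetherianRing A := inferInstance
  haveI : IsIntegrallyClosed A := inferInstance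
  have hAL : Function.Injective (algebraMap A L) := by
    rw [IsScalarTower.algebraMap_eq A K L]
    exact (algebraMap K L).injective.comp (IsFractionRing.injective A K)
  haveI : Module.IsTorsionFree A L := Module.isTorsionFree_iff_algebraMap_injective.mpr hAL
  haveI : Module.Finite A B := IsIntegralClosure.finite A K L B
  haveI : Module.Free A B := IsIntegralClosure.module_free A K L B
  have hBL : Function.Injective (algebraMap B L) := IsIntegralClosure.algebraMap_injective B A L
  haveI : IsDomain B := hBL.isDomain (algebraMap B L)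
  have hAB : Function.Injective (algebraMap A B) := by
    refine Function.Injective.of_comp (f := algebraMap B L) ?_
    rw [← RingHom.coe_comp, ← IsScalarTower.algebraMap_eq]
    exact hAL
  have hϖB : ¬ IsUnit (algebraMap A B ϖ) := fun h => hϖ.not_isUnit <|
    ((RingHom.IsIntegral.isLocalHom (algebraMap_isIntegral_iff.mpr inferInstance) hAB).map_nonunit ϖ h)
  -- an integral primitive element
  obtain ⟨γ, hγ⟩ := Field.exists_primitive_element K L
  obtain ⟨⟨s, hs⟩, hint⟩ := IsIntegral.exists_multiple_integral_of_isLocalization (nonZeroDivisors A) γ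
    (Algebra.IsIntegral.isIntegral (R := K) γ)
  obtain ⟨α, hα⟩ := (IsIntegralClosure.isIntegral_iff (A := B)).mp hint
  set x : L := algebraMap B L α
  have hs0 : algebraMap A K s ≠ 0 := IsFractionRing.to_map_ne_zero_of_mem_nonZeroDivisors hs
  have hxγ : x = algebraMap A K s • γ := by
    rw [algebraMap_smul, hα]
    rfl
  have htop : IntermediateField.adjoin K ({x} : Set L) = ⊤ := by
    rw [eq_top_iff, ← hγ, IntermediateField.adjoin_simple_le_iff]
    have hx : x ∈ IntermediateField.adjoin K ({x} : Set L) := IntermediateField.mem_adjoin_simple_self K x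
    have hγx : γ = (algebraMap A K s)⁻¹ • x := by rw [hxγ, smul_smul, inv_mul_cancel₀ hs0, one_smul]
    rw [hγx]
    exact IntermediateField.smul_mem _ hx
  have hαint : IsIntegral A α := IsIntegral.of_finite A α
  have hxint : IsIntegral K x := Algebra.IsIntegral.isIntegral x
  set p := minpoly A α
  have hp : minpoly K x = p.map (algebraMap A K) := minpoly.isIntegrallyClosed_eq_field_fractions K L hαint
  -- the derivative at `α` divides a power of `ϖ`
  set y := aeval α (derivative p)
  have hy : y ≠ 0 := by
    intro h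
    refine Separable.aeval_derivative_ne_zero (Algebra.IsSeparable.isSeparable K x) (minpoly.aeval K x) ?_
    rw [hp, derivative_map, aeval_map_algebraMap, aeval_algebraMap_apply]
    rw [show aeval α (derivative p) = 0 from h, map_zero]
  obtain ⟨a, ha0, hya⟩ := (IsIntegral.of_finite A y).isAlgebraic.exists_nonzero_dvd (mem_nonZeroDivisors_of_ne_zero hy)
  obtain ⟨d, u, hau⟩ := IsDiscreteValuationRing.eq_unit_mul_pow_irreducible ha0 hϖ
  obtain ⟨w, hw⟩ : y ∣ algebraMap A B (ϖ ^ d) := hya.trans ⟨algebraMap A B (u⁻¹ : Aˣ), by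
    rw [← map_mul, hau, mul_comm (u : A), mul_assoc, ← Units.val_mul, mul_inv_cancel, Units.val_one, mul_one]⟩
  refine ⟨2 * d + 1, by omega, fun C _ _ _ _ _ m hm ψ => ?_⟩
  have hker : algebraMap A C ϖ ≠ 0 := by
    intro h
    have h1 : ψ (Ideal.Quotient.mk _ (algebraMap A B ϖ)) = 0 := by
      rw [Ideal.Quotient.mk_algebraMap, AlgEquiv.commutes, ← Ideal.Quotient.mk_algebraMap, h, map_zero]
    rw [← map_zero ψ, ψ.injective.eq_iff, Ideal.Quotient.eq_zero_iff_mem, Ideal.mem_span_singleton] at h1
    obtain ⟨c, hc⟩ := h1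
    obtain ⟨k, rfl⟩ : ∃ k, m = k + 2 := ⟨m - 2, by omega⟩
    rw [map_pow] at hc
    have hne : algebraMap A B ϖ ≠ 0 := fun h0 => hϖ.ne_zero (hAB (by rw [h0, map_zero]))
    exact hϖB (IsUnit.of_mul_eq_one (algebraMap A B ϖ ^ k * c) (mul_left_cancel₀ hne (by linear_combination (-hc))))
  have hAC : Function.Injective (algebraMap A C) := (injective_iff_map_eq_zero _).mpr fun z hz => by
    by_contra hz0
    obtain ⟨k, u', rfl⟩ := IsDiscreteValuationRing.eq_unit_mul_pow_irreducible hz0 hϖ
    rw [map_mul, map_pow] at hz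
    exact (mul_eq_zero.mp hz).elim (u'.isUnit.map (algebraMap A C)).ne_zero (pow_ne_zero _ hker)
  haveI : Module.IsTorsionFree A C := Module.isTorsionFree_iff_algebraMap_injective.mpr hAC
  haveI : Module.Free A C := inferInstance
  haveI : IsAdicComplete (maximalIdeal A) C := Groth.L05.Krasner.isAdicComplete_of_finite _ C
  have hπ : ϖ ∈ maximalIdeal A := hϖ.not_isUnit
  -- lift the primitive element
  obtain ⟨β, hβ⟩ := Ideal.Quotient.mk_surjective (ψ (Ideal.Quotient.mk _ α))
  have hcongr : ∀ q : A[X], Ideal.Quotient.mk (Ideal.span {algebraMap A C (ϖ ^ m)}) (aeval β q) =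
      ψ (Ideal.Quotient.mk _ (aeval α q)) := fun q => by
    rw [← Ideal.Quotient.mkₐ_eq_mk A, ← Ideal.Quotient.mkₐ_eq_mk A, ← aeval_algHom_apply, ← aeval_algHom_apply,
      ← aeval_algHom_apply, Ideal.Quotient.mkₐ_eq_mk, Ideal.Quotient.mkₐ_eq_mk, hβ]
  obtain ⟨c, hc⟩ : algebraMap A C (ϖ ^ m) ∣ aeval β p := by
    rw [← Ideal.mem_span_singleton, ← Ideal.Quotient.eq_zero_iff_mem, hcongr, minpoly.aeval, map_zero, map_zero]
  obtain ⟨w₀, hw₀⟩ := Ideal.Quotient.mk_surjective (ψ (Ideal.Quotient.mk _ w))
  obtain ⟨e, he⟩ : algebraMap A C (ϖ ^ m) ∣ aeval β (derivative p) * w₀ - algebraMap A C (ϖ ^ d) := by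
    rw [← Ideal.mem_span_singleton, ← Ideal.Quotient.eq, map_mul, hcongr, hw₀, ← map_mul, ← map_mul, ← hw,
      Ideal.Quotient.mk_algebraMap, AlgEquiv.commutes, Ideal.Quotient.mk_algebraMap]
  obtain ⟨k, rfl⟩ : ∃ k, m = 2 * d + (k + 1) := ⟨m - (2 * d + 1), by omega⟩
  obtain ⟨v, hv⟩ := (Groth.L05.Krasner.isUnit_one_add (T := C) hπ
    (algebraMap A C ϖ ^ (d + k) * e)).exists_left_inv
  obtain ⟨β', hβ'⟩ := Groth.L05.Krasner.exists_root (T := C) hπ (p.map (algebraMap A C)) β <| by
    refine ⟨(v * w₀) ^ 2 * algebraMap A C ϖ ^ k * c, ?_⟩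
    rw [derivative_map, eval_map_algebraMap, eval_map_algebraMap, hc]
    simp only [map_pow] at he ⊢
    have h1 : aeval β (derivative p) * (v * w₀) = algebraMap A C ϖ ^ d := by
      linear_combination v * he + algebraMap A C ϖ ^ d * hv
    linear_combination (-(c * algebraMap A C ϖ ^ (k + 1))) *
      (aeval β (derivative p) * (v * w₀) + algebraMap A C ϖ ^ d) * h1
  rw [eval_map_algebraMap] at hβ'
  -- compare the fraction fields
  let F := FractionRing C
  have hAF : Function.Injective (algebraMap A F) := by
    rw [IsScalarTower.algebraMap_eq A C F]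
    exact (IsFractionRing.injective C F).comp hAC
  letI : Algebra K F := (IsFractionRing.lift hAF).toAlgebra
  haveI : IsScalarTower A K F := IsScalarTower.of_algebraMap_eq fun t => (IsFractionRing.lift_algebraMap hAF t).symm
  let pb : PowerBasis K L := (IntermediateField.adjoin.powerBasis hxint).map
    ((IntermediateField.equivOfEq htop).trans IntermediateField.topEquiv)
  have hroot : aeval (algebraMap C F β') (minpoly K pb.gen) = 0 := by
    rw [show pb.gen = x from rfl, hp, aeval_map_algebraMap, aeval_algebraMap_apply, hβ', map_zero]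
  let φ : L →ₐ[K] F := pb.lift _ hroot
  -- ranks
  have hn : Module.finrank A C = Module.finrank K L := by
    rw [← IsIntegralClosure.rank A K L B]
    refine (finrank_eq_of_quotient_equiv (Ideal.span {ϖ ^ (2 * d + (k + 1))}) ?_ ?_).symm
    · rw [Ne, Ideal.span_singleton_eq_top, isUnit_pow_iff (by omega)]
      exact hϖ.not_isUnit
    · exact ((Ideal.quotientEquivAlgOfEq A (by rw [Ideal.map_span, Set.image_singleton])).trans ψ).trans
        (Ideal.quotientEquivAlgOfEq A (by rw [Ideal.map_span, Set.image_singleton]))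
  let S := Submodule.span K (Set.range fun i => algebraMap C F (Module.finBasis A C i))
  have hSC : ∀ z : C, algebraMap C F z ∈ S := fun z => by
    rw [← (Module.finBasis A C).sum_repr z, map_sum]
    refine Submodule.sum_mem _ fun i _ => ?_
    rw [Algebra.smul_def, map_mul, ← IsScalarTower.algebraMap_apply, IsScalarTower.algebraMap_apply A K F,
      ← Algebra.smul_def]
    exact Submodule.smul_mem _ _ (Submodule.subset_span ⟨i, rfl⟩)
  have hSφ : LinearMap.range φ.toLinearMap = S := by
    haveI : Module.Finite K S := Module.Finite.span_of_finite K (Set.finite_range _)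
    refine Submodule.eq_of_le_of_finrank_le ?_ ?_
    · rintro _ ⟨l, rfl⟩
      rw [← pb.basis.sum_repr l, map_sum]
      refine Submodule.sum_mem _ fun i _ => ?_
      rw [map_smul, pb.coe_basis, AlgHom.toLinearMap_apply, map_pow, PowerBasis.lift_gen, ← map_pow]
      exact Submodule.smul_mem _ _ (hSC _)
    · refine (finrank_range_le_card _).trans ?_
      rw [Fintype.card_fin, hn]
      exact (LinearMap.finrank_range_of_inj (f := φ.toLinearMap) φ.injective).ge
  -- compare the integral closures
  let f₁ : B →ₐ[A] F := (φ.restrictScalars A).comp (IsScalarTower.toAlgHom A B L)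
  let f₂ : C →ₐ[A] F := IsScalarTower.toAlgHom A C F
  have hf₁ : Function.Injective f₁ := φ.injective.comp hBL
  have hrange : f₁.range = f₂.range := by
    ext z
    simp only [AlgHom.mem_range]
    constructor
    · rintro ⟨b, rfl⟩
      exact IsIntegrallyClosed.isIntegral_iff.mp (((IsIntegral.of_finite A b).map f₁).tower_top (A := C))
    · rintro ⟨z, rfl⟩
      obtain ⟨l, hl⟩ : f₂ z ∈ LinearMap.range φ.toLinearMap := hSφ ▸ hSC z
      have hlint : IsIntegral A l := by
        have h := (IsIntegral.of_finite A z).map f₂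
        rw [← hl] at h
        exact (isIntegral_algHom_iff (φ.restrictScalars A) φ.injective).mp h
      obtain ⟨b, rfl⟩ := (IsIntegralClosure.isIntegral_iff (A := B)).mp hlint
      exact ⟨b, hl⟩
  exact ⟨((AlgEquiv.ofInjective f₁ hf₁).trans (Subalgebra.equivOfEq _ _ hrange)).trans
    (AlgEquiv.ofInjective f₂ (IsFractionRing.injective C F)).symm⟩

end Groth.L05.DVRQuot
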